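import Cfsg.Agent.H201.L34.Form
import Cfsg.Agent.H201.L34.Ops
import Cfsg.Agent.H940.L34.Cyc
import Cfsg.Agent.E8A.Defs
import Cfsg.Agent.E82.Soc.Tg

/-!
# S3369: coordinates in the Lie algebra of type `E₈` in characteristic two (helper92)

* `co r v` : the coefficient of the root vector `er r`; `T0 v` : no toral part; `Sp A` : support in `A`;
* `co_br`, `bf_list`, `co_xr`, `co_xl`, `co_of` : brackets, the form, root elements, monomial elements.
-/

set_option autoImplicit false
set_option maxRecDepth 100000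

namespace Cfsg.Agent.E82.Soc

open Cfsg Cfsg.Lie
open Cfsg.Agent.ChevalleyStructure.Columns (car cor)
open Cfsg.Agent.H939.L64 (KK LK aK brK)
open Cfsg.Agent.H876.L64 (aK_mul aK_one aK_add aK_smul aK_zero aK_brK aK_inv aK_inv' two_zero h_br)
open Cfsg.Agent.H413.L16 (er hv hr tg nr rk8 br_rr br_neg br_hv er_of er_ge er_inr xr aK_xr tg_le six six_lt hr_six single_eq
  cast_congr cast_even cast_odd add_self' lin lin_apply br_comm)
open Cfsg.Agent.H201.L34 (bf bf_er bf_ad bf_symm bf_add_l bf_add_r bf_smul_l bf_smul_r bf_zero_l bf_zero_r bf_nondeg br_add_l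
  br_smul_l br_zero_l sum_single)

/-- the algebraic group -/
abbrev GK : Type := ↥(chevE8.group KK)

theorem bf_aK (g : GK) (v w : LK) : bf (aK g v) (aK g w) = bf v w := Cfsg.Agent.H940.L34.Cyc.bf_aK g v w

/-- the coefficient of a root vector -/
noncomputable def co (r : ℕ) (v : LK) : KK := if h : r < chevE8.nroots then v (Sum.inr ⟨r, h⟩) else 0

theorem lt_nr {r : ℕ} (h : r < 240) : r < chevE8.nroots := by rw [nr]; exact h

theorem co_of_lt {r : ℕ} (h : r < chevE8.nroots) (v : LK) : co r v = v (Sum.inr ⟨r, h⟩) := dif_pos h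

theorem co_ge {r : ℕ} (h : 240 ≤ r) (v : LK) : co r v = 0 := dif_neg (by rw [nr]; omega)

theorem co_add (r : ℕ) (u v : LK) : co r (u + v) = co r u + co r v := by
  unfold co
  split_ifs
  · rfl
  · rw [add_zero]

theorem co_smul (r : ℕ) (c : KK) (v : LK) : co r (c • v) = c * co r v := by
  unfold co
  split_ifs
  · rfl
  · rw [mul_zero]

theorem co_zero (r : ℕ) : co r 0 = 0 := by
  unfold co
  split_ifs <;> rfl

theorem co_hv (r : ℕ) (c : Fin chevE8.rank → KK) : co r (hv c) = 0 := by
  unfold co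
  split_ifs <;> rfl

theorem co_hr (r a : ℕ) : co r (hr a) = 0 := co_hv r _

theorem co_er_self {r : ℕ} (h : r < 240) : co r (er r) = 1 := by
  rw [co_of_lt (lt_nr h), er_inr, if_pos rfl]

theorem co_er_ne {r a : ℕ} (h : a ≠ r) : co r (er a) = 0 := by
  unfold co
  split_ifs
  · rw [er_inr, if_neg h]
  · rfl

theorem co_bf {r : ℕ} (h : r < 240) (v : LK) : co r v = bf (er (239 - r)) v := by
  rw [bf_er (by omega), co_of_lt (lt_nr h)]
  congr 3
  omega

theorem bf_co {r : ℕ} (h : r < 240) (v : LK) : bf (er r) v = co (239 - r) v := by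
  rw [bf_er h, co_of_lt]

/-- the coefficient as a linear map -/
noncomputable def coL (r : ℕ) : LK →ₗ[KK] KK where
  toFun := co r
  map_add' := co_add r
  map_smul' := co_smul r

/-- no toral part -/
def T0 (v : LK) : Prop := ∀ i, v (Sum.inl i) = 0

theorem er_T0 (a : ℕ) : T0 (er a) := by
  intro i
  unfold er
  split_ifs
  · exact Pi.single_eq_of_ne (by simp) _
  · rfl

/-- the vectors whose root components are in `A` -/
def St (A : ℕ → Prop) : Submodule KK LK where
  carrier := {v | ∀ r < 240, ¬ A r → co r v = 0}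
  add_mem' := fun {a b} ha hb r h h' => by rw [co_add, ha r h h', hb r h h', add_zero]
  zero_mem' := fun r _ _ => co_zero r
  smul_mem' := fun c a ha r h h' => by rw [co_smul, ha r h h', mul_zero]

/-- the span of the root vectors in `A` -/
def Sp (A : ℕ → Prop) : Submodule KK LK where
  carrier := {v | T0 v ∧ v ∈ St A}
  add_mem' := fun {a b} ha hb => ⟨fun i => by rw [Pi.add_apply, ha.1 i, hb.1 i, add_zero], add_mem ha.2 hb.2⟩
  zero_mem' := ⟨fun _ => rfl, zero_mem _⟩
  smul_mem' := fun c a ha => ⟨fun i => by rw [Pi.smul_apply, ha.1 i, smul_zero], Submodule.smul_mem _ c ha.2⟩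

theorem mem_St {A : ℕ → Prop} {v : LK} : v ∈ St A ↔ ∀ r < 240, ¬ A r → co r v = 0 := Iff.rfl

theorem mem_Sp {A : ℕ → Prop} {v : LK} : v ∈ Sp A ↔ T0 v ∧ ∀ r < 240, ¬ A r → co r v = 0 := Iff.rfl

theorem St_mono {A B : ℕ → Prop} (h : ∀ r < 240, A r → B r) {v : LK} (hv : v ∈ St A) : v ∈ St B :=
  fun r h1 h2 => hv r h1 fun h3 => h2 (h r h1 h3)

theorem Sp_mono {A B : ℕ → Prop} (h : ∀ r < 240, A r → B r) {v : LK} (hv : v ∈ Sp A) : v ∈ Sp B :=
  ⟨hv.1, St_mono h hv.2⟩

theorem er_mem_Sp {A : ℕ → Prop} {a : ℕ} (h : a < 240 → A a) : er a ∈ Sp A :=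
  ⟨er_T0 a, fun r h1 h2 => co_er_ne fun e => h2 (e ▸ h (e ▸ h1))⟩

theorem eq_zero_of {v : LK} (h0 : T0 v) (h : ∀ r < 240, co r v = 0) : v = 0 := by
  funext a
  rcases a with a | a
  · exact h0 a
  · exact (co_of_lt a.2 v).symm.trans (h a (lt_of_lt_of_eq a.2 nr))

theorem exists_co {v : LK} (h0 : T0 v) (h : v ≠ 0) : ∃ r < 240, co r v ≠ 0 := by
  by_contra h1
  push Not at h1
  exact h (eq_zero_of h0 h1)

theorem co_list (r : ℕ) (l : List LK) : co r l.sum = (l.map (co r)).sum := map_list_sum (coL r) l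

/-- the expansion along a list -/
theorem expand {l : List ℕ} (hn : l.Nodup) (hl : ∀ r ∈ l, r < 240) {v : LK} (hv : v ∈ Sp (· ∈ l)) :
    v = (l.map fun r => co r v • er r).sum := by
  have key : ∀ (l : List ℕ), l.Nodup → (∀ r ∈ l, r < 240) → T0 (l.map fun r => co r v • er r).sum ∧
      ∀ s, co s (l.map fun r => co r v • er r).sum = if s ∈ l then co s v else 0 := by
    intro l
    induction l with
    | nil => exact fun _ _ => ⟨fun _ => rfl, fun s => co_zero s⟩
    | cons a l ih =>
      intro h1 h2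
      obtain ⟨h3, h4⟩ := ih (List.nodup_cons.1 h1).2 fun r h => h2 r (List.mem_cons_of_mem _ h)
      rw [List.map_cons, List.sum_cons]
      refine ⟨fun i => by rw [Pi.add_apply, h3 i, Pi.smul_apply, er_T0, smul_zero, add_zero], fun s => ?_⟩
      rw [co_add, co_smul, h4]
      by_cases e : a = s
      · subst e
        rw [co_er_self (h2 a List.mem_cons_self), if_neg (List.nodup_cons.1 h1).1, if_pos List.mem_cons_self, mul_one, add_zero]
      · rw [co_er_ne e, mul_zero, zero_add]
        exact if_congr (by rw [List.mem_cons]; exact ⟨Or.inr, fun h => h.resolve_left fun e' => e e'.symm⟩) rfl rfl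
  obtain ⟨h1, h2⟩ := key l hn hl
  rw [← sub_eq_zero, sub_eq_add_neg, ← neg_one_smul KK]
  refine eq_zero_of (fun i => by rw [Pi.add_apply, Pi.smul_apply, h1 i, hv.1 i, smul_zero, add_zero]) fun r h => ?_
  rw [co_add, co_smul, h2]
  split_ifs with e
  · ring
  · rw [hv.2 r h e]; ring

/-- a subspace which contains the root vectors of `A` -/
theorem Sp_le {A : ℕ → Prop} {W : Submodule KK LK} (h : ∀ r < 240, A r → er r ∈ W) : Sp A ≤ W := by
  intro v hv
  rw [expand (l := List.range 240) List.nodup_range (fun r h => List.mem_range.1 h)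
    (Sp_mono (fun _ h _ => List.mem_range.2 h) hv)]
  refine list_sum_mem fun x hx => ?_
  obtain ⟨r, hr, rfl⟩ := List.mem_map.1 hx
  by_cases e : A r
  · exact W.smul_mem _ (h r (List.mem_range.1 hr) e)
  · rw [hv.2 r (List.mem_range.1 hr) e, zero_smul]
    exact W.zero_mem

theorem Sp_map {A B : ℕ → Prop} {g : GK} (h : ∀ r < 240, A r → aK g (er r) ∈ Sp B) {v : LK} (hv : v ∈ Sp A) :
    aK g v ∈ Sp B := Sp_le (W := (Sp B).comap (lin g)) h hv

theorem inN_of {v : LK} (hv : v ∈ Sp (120 ≤ ·)) : Cfsg.Agent.E8A.InN v :=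
  ⟨fun r h => (co_of_lt r.2 v).symm.trans (hv.2 r (by omega) (by omega)), hv.1⟩

/-! ### brackets -/

/-- the index of `γ - r` -/
def pr (r γ : ℕ) : ℕ := if tf r (239 - γ) < 240 then 239 - tf r (239 - γ) else 240

theorem br_tf {r s : ℕ} (hr : r < 240) (hs : s < 240) (hn : s ≠ 239 - r) : brK (er r) (er s) = er (tf r s) := by
  rw [br_rr hr hs hn, tg_eq]

theorem br_tf0 {r s : ℕ} (hr : r < 240) (hs : s < 240) (hn : s ≠ 239 - r) (h : tf r s = 240) : brK (er r) (er s) = 0 := by
  rw [br_tf hr hs hn, h, er_ge le_rfl]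

theorem co_br_er {r γ : ℕ} (hr : r < 240) (hγ : γ < 240) (h : γ ≠ r) (w : LK) : co γ (brK (er r) w) = co (pr r γ) w := by
  rw [co_bf hγ, ← bf_ad, br_tf hr (by omega) (by omega), pr]
  split_ifs with e
  · exact bf_co e w
  · rw [er_ge (by omega), bf_zero_l, co_ge le_rfl]

/-- the pairs which contribute to a coefficient of a bracket -/
def prs (l l' : List ℕ) (γ : ℕ) : List (ℕ × ℕ) := (l.map fun r => (r, pr r γ)).filter fun p => l'.contains p.2

/-- the conditions on a list -/
def okL (l : List ℕ) : Bool := decide l.Nodup && l.all fun r => decide (r < 240)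

theorem okL_spec {l : List ℕ} (h : okL l = true) : l.Nodup ∧ ∀ r ∈ l, r < 240 := by
  rw [okL, Bool.and_eq_true, decide_eq_true_eq, List.all_eq_true] at h
  exact ⟨h.1, fun r hr => of_decide_eq_true (h.2 r hr)⟩

theorem sum_filter {α : Type} (l : List α) (p : α → Bool) (F : α → KK) (h : ∀ a ∈ l, p a = false → F a = 0) :
    ((l.filter p).map F).sum = (l.map F).sum := by
  induction l with
  | nil => rfl
  | cons a l ih =>
    have ih' := ih fun b hb => h b (List.mem_cons_of_mem _ hb)
    cases e : p a with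
    | true => rw [List.filter_cons_of_pos e, List.map_cons, List.map_cons, List.sum_cons, List.sum_cons, ih']
    | false =>
      rw [List.filter_cons_of_neg (by rw [e]; exact Bool.false_ne_true), List.map_cons, List.sum_cons, ih',
        h a List.mem_cons_self e, zero_add]

theorem co_off {l : List ℕ} {w : LK} (hw : w ∈ St (· ∈ l)) {s : ℕ} (h : l.contains s = false) : co s w = 0 := by
  by_cases e : s < 240
  · exact hw s e fun h1 => by rw [List.contains_iff_mem.2 h1] at h; exact Bool.noConfusion h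
  · exact co_ge (by omega) w

theorem br_list (l : List LK) (w : LK) : brK l.sum w = (l.map fun x => brK x w).sum := by
  induction l with
  | nil => exact br_zero_l w
  | cons a l ih => rw [List.sum_cons, br_add_l, ih, List.map_cons, List.sum_cons]

/-- **a coefficient of a bracket** -/
theorem co_br {l l' : List ℕ} {γ : ℕ} {ps : List (ℕ × ℕ)}
    (h : (okL l && decide (γ < 240) && !l.contains γ && decide (prs l l' γ = ps)) = true) {v w : LK} (hv : v ∈ Sp (· ∈ l))
    (hw : w ∈ St (· ∈ l')) : co γ (brK v w) = (ps.map fun p => co p.1 v * co p.2 w).sum := by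
  simp only [Bool.and_eq_true, decide_eq_true_eq, Bool.not_eq_true'] at h
  obtain ⟨⟨⟨h1, h2⟩, h3⟩, h4⟩ := h
  obtain ⟨h5, h6⟩ := okL_spec h1
  conv_lhs => rw [expand h5 h6 hv]
  rw [br_list, co_list, ← h4, prs, sum_filter _ _ _ fun p _ e => by rw [co_off hw e, mul_zero], List.map_map, List.map_map,
    List.map_map]
  refine congrArg List.sum (List.map_congr_left fun r hr => ?_)
  show co γ (brK (co r v • er r) w) = co r v * co (pr r γ) w
  rw [br_smul_l, co_smul, co_br_er (h6 r hr) h2 fun e => by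
    rw [List.contains_iff_mem.2 (e ▸ hr)] at h3; exact Bool.noConfusion h3]

theorem bf_list (l : List LK) (w : LK) : bf l.sum w = (l.map fun x => bf x w).sum := by
  induction l with
  | nil => exact bf_zero_l w
  | cons a l ih => rw [List.sum_cons, bf_add_l, ih, List.map_cons, List.sum_cons]

/-! ### toral elements -/

/-- the value of a root -/
noncomputable def rv (c : Fin chevE8.rank → KK) (r : ℕ) : KK := ∑ i, c i * ((car chevE8 i r : ℤ) : KK)

theorem co_br_hv (c : Fin chevE8.rank → KK) (r : ℕ) (v : LK) : co r (brK (hv c) v) = rv c r * co r v := by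
  unfold co
  split_ifs with h
  · unfold hv
    rw [h_br]
    rfl
  · rw [mul_zero]

theorem T0_br_hv (c : Fin chevE8.rank → KK) (v : LK) : T0 (brK (hv c) v) := by
  intro i
  unfold hv
  rw [h_br]
  rfl

/-- the pairing of two roots -/
def pa (a r : ℕ) : ℤ := ∑ i : Fin 8, cor chevE8 a i * car chevE8 i r

theorem co_br_hr (a r : ℕ) (v : LK) : co r (brK (hr a) v) = ((pa a r : ℤ) : KK) * co r v := by
  rw [hr, co_br_hv, pa, Int.cast_sum]
  congr 1
  exact Finset.sum_congr rfl fun i _ => (Int.cast_mul _ _).symm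

theorem T0_br_hr (a : ℕ) (v : LK) : T0 (brK (hr a) v) := T0_br_hv _ v

/-- the roots which contribute to a toral component of a bracket -/
def prh (l l' : List ℕ) (a : ℕ) : List ℕ := l.filter fun r => decide (pa a r % 2 ≠ 0) && l'.contains (239 - r)

/-- **a toral component of a bracket** -/
theorem bf_hr_br {l l' : List ℕ} {a : ℕ} {ps : List ℕ} (h : (okL l && decide (prh l l' a = ps)) = true) {v w : LK}
    (hv : v ∈ Sp (· ∈ l)) (hw : w ∈ St (· ∈ l')) :
    bf (hr a) (brK v w) = (ps.map fun r => co r v * co (239 - r) w).sum := by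
  simp only [Bool.and_eq_true, decide_eq_true_eq] at h
  obtain ⟨h5, h6⟩ := okL_spec h.1
  have h1 : brK (hr a) v ∈ Sp (· ∈ l) := ⟨T0_br_hr a v, fun r h2 h3 => by rw [co_br_hr, hv.2 r h2 h3, mul_zero]⟩
  rw [← bf_ad, br_comm, expand h5 h6 h1, bf_list, List.map_map, ← h.2, prh]
  have e : ∀ r ∈ l, ((fun x => bf x w) ∘ fun r => co r (brK (hr a) v) • er r) r =
      ((pa a r : ℤ) : KK) * (co r v * co (239 - r) w) := fun r hr' => by
    show bf (co r (brK (hr a) v) • er r) w = _
    rw [bf_smul_l, co_br_hr, bf_co (h6 r hr'), mul_assoc]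
  rw [List.map_congr_left e, ← sum_filter l (fun r => decide (pa a r % 2 ≠ 0) && l'.contains (239 - r))]
  · refine congrArg List.sum (List.map_congr_left fun r hr' => ?_)
    have h2 := (List.mem_filter.1 hr').2
    rw [Bool.and_eq_true, decide_eq_true_eq] at h2
    rw [cast_odd h2.1, one_mul]
  · intro r _ h2
    rw [Bool.and_eq_false_iff, decide_eq_false_iff_not, not_not] at h2
    rcases h2 with h2 | h2
    · rw [cast_even h2, zero_mul]
    · rw [co_off hw h2, mul_zero, mul_zero]

theorem hv_add (c d : Fin chevE8.rank → KK) : hv (c + d) = hv c + hv d := by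
  funext a
  rcases a with a | a
  · rfl
  · exact (add_zero (0 : KK)).symm

/-- a coroot as a sum of coroots -/
theorem hr_sum (a : ℕ) (l : List ℕ) (h : ∀ i : Fin 8, (cor chevE8 a i - (l.map fun x => cor chevE8 x i).sum) % 2 = 0) :
    hr a = (l.map hr).sum := by
  have key : ∀ l : List ℕ, (l.map hr).sum = hv fun i => (((l.map fun x => cor chevE8 x i).sum : ℤ) : KK) := by
    intro l
    induction l with
    | nil =>
      funext a
      rcases a with a | a
      · exact Int.cast_zero.symm
      · rfl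
    | cons x l ih =>
      rw [List.map_cons, List.sum_cons, ih, hr, ← hv_add]
      congr 1
      funext i
      rw [List.map_cons, List.sum_cons, Int.cast_add]
      rfl
  rw [key, hr]
  congr 1
  funext i
  exact cast_congr (h (i.cast rk8))

theorem eq_zero_of_hr {v : LK} (h0 : ∀ k, bf (hr (six k)) v = 0) (h : ∀ r < 240, co r v = 0) : v = 0 := by
  refine bf_nondeg fun u => ?_
  rw [bf_symm, sum_single u]
  refine Finset.sum_induction _ (fun x => bf x v = 0) (fun a b ha hb => by rw [bf_add_l, ha, hb, add_zero]) (bf_zero_l v)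
    fun k _ => ?_
  rw [bf_smul_l, single_eq]
  rcases k with k | s
  · show u _ * bf (hv (Pi.single k 1)) v = 0
    rw [← hr_six, h0, mul_zero]
  · show u _ * bf (er s) v = 0
    rw [bf_co (lt_of_lt_of_eq s.2 nr), h _ (by omega), mul_zero]

/-! ### group elements -/

theorem aK_xr' {r : ℕ} (h : r < 240) (c : KK) (w : LK) :
    aK (xr r c) w = w + c • brK (er r) w + (c ^ 2 * co (239 - r) w) • er r := by
  rw [aK_xr h, co_of_lt]

theorem co_xr {r γ : ℕ} (hr : r < 240) (hγ : γ < 240) (h : γ ≠ r) (c : KK) (w : LK) :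
    co γ (aK (xr r c) w) = co γ w + c * co (pr r γ) w := by
  rw [aK_xr' hr, co_add, co_add, co_smul, co_smul, co_br_er hr hγ h, co_er_ne h.symm, mul_zero, add_zero]

/-- a product of root elements -/
noncomputable def xl (l : List ℕ) (c : KK) : GK := (l.map fun r => xr r c).prod

/-- the terms of a coefficient -/
def exl : List ℕ → ℕ → List (ℕ × ℕ)
  | [], γ => [(0, γ)]
  | r :: l, γ => exl l γ ++ if pr r γ < 240 then (exl l (pr r γ)).map fun p => (p.1 + 1, p.2) else []

/-- the conditions -/
def okx : List ℕ → ℕ → Bool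
  | [], _ => true
  | r :: l, γ => decide (r < 240) && decide (γ < 240) && decide (γ ≠ r) && okx l γ && (decide (240 ≤ pr r γ) || okx l (pr r γ))

theorem exl_realised : True := by have := @exl.eq_def; have := @okx.eq_def; trivial

theorem co_xl' (c : KK) (w : LK) (l : List ℕ) : ∀ γ, okx l γ = true →
    co γ (aK (xl l c) w) = ((exl l γ).map fun p => c ^ p.1 * co p.2 w).sum := by
  induction l with
  | nil =>
    intro γ _
    show co γ (aK 1 w) = c ^ 0 * co γ w + 0
    rw [aK_one, pow_zero, one_mul, add_zero]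
  | cons r l ih =>
    intro γ h
    have h' : (decide (r < 240) && decide (γ < 240) && decide (γ ≠ r) && okx l γ &&
      (decide (240 ≤ pr r γ) || okx l (pr r γ))) = true := h
    simp only [Bool.and_eq_true, decide_eq_true_eq, Bool.or_eq_true] at h'
    obtain ⟨⟨⟨⟨h1, h2⟩, h3⟩, h4⟩, h5⟩ := h'
    have e1 : xl (r :: l) c = xr r c * xl l c := by rw [xl, List.map_cons, List.prod_cons]; rfl
    have e2 : exl (r :: l) γ = exl l γ ++ if pr r γ < 240 then (exl l (pr r γ)).map fun p => (p.1 + 1, p.2) else [] := rfl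
    rw [e1, e2, aK_mul, co_xr h1 h2 h3, ih γ h4, List.map_append, List.sum_append]
    congr 1
    split_ifs with e
    · rw [ih _ (h5.resolve_left (by omega)), List.map_map, ← List.sum_map_mul_left]
      refine congrArg List.sum (List.map_congr_left fun p _ => ?_)
      show c * (c ^ p.1 * co p.2 w) = c ^ (p.1 + 1) * co p.2 w
      ring
    · rw [co_ge (by omega), mul_zero]
      rfl

/-- **a coefficient after a product of root elements** -/
theorem co_xl {l l' : List ℕ} {γ : ℕ} {ps : List (ℕ × ℕ)}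
    (h : (okx l γ && decide (((exl l γ).filter fun p => l'.contains p.2) = ps)) = true) (c : KK) {w : LK}
    (hw : w ∈ St (· ∈ l')) : co γ (aK (xl l c) w) = (ps.map fun p => c ^ p.1 * co p.2 w).sum := by
  rw [Bool.and_eq_true, decide_eq_true_eq] at h
  rw [co_xl' c w l γ h.1, ← h.2, sum_filter _ _ _ fun p _ e => by rw [co_off hw e, mul_zero]]

/-- coefficients under an element which permutes root lines -/
theorem co_of {g : GK} {r γ : ℕ} {c : KK} (hr : r < 240) (hγ : γ < 240) (h : aK g (er (239 - r)) = c • er (239 - γ)) (v : LK) :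
    co r v = c * co γ (aK g v) := by
  rw [co_bf hr, co_bf hγ, ← bf_aK g, h, bf_smul_l]

/-- conjugation of root elements -/
theorem aK_conj_xr {g : GK} {r s : ℕ} (hr : r < 240) (hs : s < 240) (h : aK g (er r) = er s) (c : KK) (w : LK) :
    aK g (aK (xr r c) w) = aK (xr s c) (aK g w) := by
  rw [aK_xr' hr, aK_xr' hs, aK_add, aK_add, aK_smul, aK_smul, aK_brK, h, ← bf_co hr, ← bf_co hs, ← h, bf_aK]

end Cfsg.Agent.E82.Soc
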