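import Cfsg.Agent.E82.Soc.S8b
import Cfsg.Agent.E82.Soc.Core
import Cfsg.Agent.H201.L34.Sq

/-!
# S3369, `Sp₄(4)`: the frame of `5²`, the position of the weight vectors (helper92)

* `B5` : the frame; the letters are `x₁, x₂, w₃, y₃, w₄, y₄, w₁, y₁`; `F` is the Frobenius map;
* `B5.loc10`, `B5.loc11` : weight vectors which generate a natural module of the third `A₅` are in the odd part of `zz`.
-/

set_option autoImplicit false
set_option maxRecDepth 100000
set_option maxHeartbeats 400000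

namespace Cfsg.Agent.E82.Soc

open Cfsg Cfsg.Lie
open Cfsg.Agent.H939.L64 (KK LK aK brK)
open Cfsg.Agent.H876.L64 (aK_mul aK_one aK_add aK_smul aK_zero aK_brK aK_inv aK_inv' two_zero)
open Cfsg.Agent.H413.L16 (er hr ipj br_comm add_self' er_ge br_neg cast_odd cast_even)
open Cfsg.Agent.H201.L34 (gw bf bf_zero_r br_add_l br_add_r br_smul_l br_smul_r br_zero_l br_zero_r IsSq isSq_er)

/-- the weights of `x₁`, `x₂` -/
def W5 : Fin 2 → ℕ :=
  ![0x22110000443303322113221131002002411100200241144130030044413003004244332443322224133133202211022110022110022114110411303202441044144330044330044330443303224224133332211322113100200241110020024114413003004441300300424433244332202211000044330,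
  0x433333333333322222221222212221221211222122121122121121112212112111211112111111110100100010000100000100000100001000100101404004000400004000004000004000040004004044444444344443444344343344434434334434334333443433433343333433333332222222222221]

/-- the weight of a root -/
def v5 (i : Fin 2) (r : ℕ) : ℕ := Nat.shiftRight (W5 i) (4 * r) % 16

/-- the word of `w₃` -/
def l3 : List ℕ := [195, 204, 218, 222]

/-- the first toral element -/
noncomputable def z13 : LK := hr 121 + hr 141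

/-- the second toral element -/
noncomputable def z24 : LK := hr 126 + hr 135

/-- its values -/
def g13 (r : ℕ) : Bool := Nat.testBit 0x679b31a4c93336cda733369cd34d9db9b2cb396ccce5b36ccc93258cd9e6 r

/-- its values -/
def g24 (r : ℕ) : Bool := Nat.testBit 0x1fe039df87e381e0463c7ee71c73b81dce38e77e3c620781c7e1fb9c07f8 r

theorem zz_eq : zz = z13 + z24 := by
  rw [zz, z13, z24]
  abel

theorem co_h2 {a b : ℕ} {g : ℕ → Bool} (h : ((List.range 240).all fun r => decide ((pa a r + pa b r) % 2 =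
    if g r = true then 1 else 0)) = true) {r : ℕ} (hr' : r < 240) (v : LK) :
    co r (brK (hr a + hr b) v) = if g r = true then co r v else 0 := by
  have h2 := of_decide_eq_true (all_lt h hr')
  rw [br_add_l, co_add, co_br_hr, co_br_hr, ← add_mul, ← Int.cast_add]
  split_ifs with e
  · rw [if_pos e] at h2
    rw [cast_odd (by rw [h2]; decide), one_mul]
  · rw [if_neg e] at h2
    rw [cast_even h2, zero_mul]

theorem co_z13 {r : ℕ} (h : r < 240) (v : LK) : co r (brK z13 v) = if g13 r = true then co r v else 0 :=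
  co_h2 (by decide +kernel) h v

theorem co_z24 {r : ℕ} (h : r < 240) (v : LK) : co r (brK z24 v) = if g24 r = true then co r v else 0 :=
  co_h2 (by decide +kernel) h v

theorem T0_h2 (a b : ℕ) (v : LK) : T0 (brK (hr a + hr b) v) := fun i => by
  rw [br_add_l, Pi.add_apply, T0_br_hr, T0_br_hr, add_zero]

/-- the part of weight one -/
theorem Sp_one {z : LK} {g : ℕ → Bool} (h0 : ∀ v, T0 (brK z v)) (h : ∀ r < 240, ∀ v, co r (brK z v) = if g r = true then co r v else 0)
    {A : ℕ → Prop} {v : LK} (hv : v ∈ St A) : brK z v ∈ Sp fun r => A r ∧ g r = true := ⟨h0 v, fun r h1 h2 => by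
  rw [h r h1]
  split_ifs with e
  · exact hv r h1 fun e1 => h2 ⟨e1, e⟩
  · rfl⟩

/-- the part of weight zero -/
theorem Sp_zero {z : LK} {g : ℕ → Bool} (h0 : ∀ v, T0 (brK z v)) (h : ∀ r < 240, ∀ v, co r (brK z v) = if g r = true then co r v else 0)
    {A : ℕ → Prop} {v : LK} (hv : v ∈ Sp A) : v + brK z v ∈ Sp fun r => A r ∧ g r = false := ⟨fun i => by
  rw [Pi.add_apply, hv.1 i, h0 v i, add_zero], fun r h1 h2 => by
  rw [co_add, h r h1]
  split_ifs with e
  · exact two_mul_K _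
  · rw [add_zero]
    exact hv.2 r h1 fun e1 => h2 ⟨e1, Bool.eq_false_iff.2 e⟩⟩

theorem Eg_sp {z : LK} {g : ℕ → Bool} (h0 : ∀ v, T0 (brK z v)) (h : ∀ r < 240, ∀ v, co r (brK z v) = if g r = true then co r v else 0)
    {A : ℕ → Prop} {v : LK} (hv : v ∈ St A) (h1 : v ∈ Eg z 1) : v ∈ Sp fun r => A r ∧ g r = true := by
  have e : brK z v = v := (show brK z v = (1 : KK) • v from h1).trans (one_smul _ _)
  rw [← e]
  exact Sp_one h0 h hv

theorem Eg_of {z : LK} {g : ℕ → Bool} (h0 : ∀ v, T0 (brK z v)) (h : ∀ r < 240, ∀ v, co r (brK z v) = if g r = true then co r v else 0)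
    {v : LK} (hv : v ∈ Sp (g · = true)) : v ∈ Eg z 1 := by
  show brK z v = (1 : KK) • v
  rw [one_smul]
  refine ext_co (fun i => by rw [h0, hv.1 i]) fun r h1 => ?_
  rw [h r h1]
  split_ifs with e
  · rfl
  · exact (hv.2 r h1 e).symm

theorem zero_of_Sp {v : LK} {A : ℕ → Prop} (hv : v ∈ Sp A) (h : ∀ r < 240, A r → co r v = 0) : v = 0 :=
  eq_zero_of hv.1 fun r hr' => by
    by_cases e : A r
    exacts [h r hr' e, hv.2 r hr' e]

/-- the frame -/
structure B5 (ζ : KK) (e : ℕ → GK) (s : GK) (F : LK →+ LK) : Prop where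
  prim : IsPrimitiveRoot ζ 5
  d1 : Dg (e 0) ζ (v5 0)
  d2 : Dg (e 1) ζ (v5 1)
  mW : Mn (e 2) l3 s
  ww : ∀ v, aK (e 2) (aK (e 2) v) = v
  r1 : e 0 * e 2 * e 1 = e 2
  r2 : e 1 * e 2 * e 0 = e 2
  fixY : ∀ v, aK (e 0) v = v → aK (e 1) v = v → aK (e 2) v = v → aK (e 3) v = v
  triv : ∀ V : Submodule KK LK, (∀ v ∈ V, aK (e 0) v = v ∧ aK (e 1) v = v) → (∀ v ∈ V, aK (e 3) v ∈ V) → ∀ v ∈ V, aK (e 2) v = v
  fz : ∀ j < 7, aK (e j) z13 = z13 ∧ aK (e j) z24 = z24
  Fs : ∀ (c : KK) v, F (c • v) = c ^ 2 • F v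
  Fe : ∀ j v, F (aK (e j) v) = aK (e j) (F v)
  Fb : ∀ u v, F (brK u v) = brK (F u) (F v)
  F1 : F z13 = z24
  F2 : F z24 = z13
  Fi : Function.Injective F

/-- weight vectors -/
def Wt (ζ : KK) (e : ℕ → GK) (a b : ℕ) (n : LK) : Prop := aK (e 0) n = ζ ^ a • n ∧ aK (e 1) n = ζ ^ b • n

/-- one equation -/
def D1 (g w : GK) (a b : KK) : Submodule KK LK where
  carrier := {n | aK g n = a • n + b • aK w n}
  add_mem' := fun {x y} hx hy => by
    show aK g (x + y) = a • (x + y) + b • aK w (x + y)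
    rw [aK_add, aK_add, show aK g x = _ from hx, show aK g y = _ from hy, smul_add, smul_add]
    abel
  zero_mem' := by
    show aK g 0 = a • 0 + b • aK w 0
    rw [aK_zero, aK_zero, smul_zero, smul_zero, add_zero]
  smul_mem' := fun c x hx => by
    show aK g (c • x) = a • c • x + b • aK w (c • x)
    rw [aK_smul, aK_smul, show aK g x = _ from hx, smul_add, smul_comm c a, smul_comm c b]

theorem D1.ad {g w : GK} {a b : KK} {δ n : LK} (h1 : aK g δ = δ) (h2 : aK w δ = δ) (hn : n ∈ D1 g w a b) : brK δ n ∈ D1 g w a b := by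
  show aK g (brK δ n) = a • brK δ n + b • aK w (brK δ n)
  rw [aK_brK, aK_brK, h1, h2, show aK g n = _ from hn, br_add_r, br_smul_r, br_smul_r]

/-- both equations -/
noncomputable def Dbl (e : ℕ → GK) (a b c d : KK) : Submodule KK LK := D1 (e 3) (e 2) a b ⊓ D1 (e 3 * e 2) (e 2) c d

theorem mem_smul {G : Submodule KK LK} {c : KK} {u : LK} (hc : c ≠ 0) (h : c • u ∈ G) : u ∈ G := by
  have h1 := G.smul_mem c⁻¹ h
  rwa [smul_smul, inv_mul_cancel₀ hc, one_smul] at h1

/-- the check for a bracket -/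
def bdk (p q r t u : ℕ) : Bool := decide (p < 240 ∧ q < 240 ∧ r < 240 ∧ r ≠ 239 - p ∧ r ≠ 239 - q ∧ tf p r = t ∧ tf q r = u)

theorem bd {p q r t u : ℕ} (h : bdk p q r t u = true) : brK (er p + er q) (er r) = er t + er u := by
  obtain ⟨h1, h2, h3, h4, h5, h6, h7⟩ := of_decide_eq_true h
  rw [br_add_l, br_tf h1 h3 h4, br_tf h2 h3 h5, h6, h7]

theorem er240 : er 240 = 0 := er_ge le_rfl

theorem ex4 {a b c d : ℕ} (h : okL [a, b, c, d] = true) {v : LK} (hv : v ∈ Sp (· ∈ [a, b, c, d])) :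
    v = co a v • er a + co b v • er b + co c v • er c + co d v • er d := by
  have h1 := expand (okL_spec h).1 (okL_spec h).2 hv
  simp only [List.map_cons, List.map_nil, List.sum_cons, List.sum_nil, add_zero] at h1
  rw [add_assoc, add_assoc]
  exact h1

theorem br4 (δ : LK) (a b c d : KK) (x y z w : LK) :
    brK δ (a • x + b • y + c • z + d • w) = a • brK δ x + b • brK δ y + c • brK δ z + d • brK δ w := by
  rw [br_add_r, br_add_r, br_add_r, br_smul_r, br_smul_r, br_smul_r, br_smul_r]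

/-- the check for the tensor product of the first two natural modules -/
def ck4 (a b c d : ℕ) : Bool := okL [a, b, c, d] && (bdk 121 141 a 240 240 && bdk 121 141 b 240 240 && bdk 121 141 c a 240 &&
  bdk 121 141 d b 240) && (bdk 126 135 a 240 240 && bdk 126 135 b a 240 && bdk 126 135 c 240 240 && bdk 126 135 d c 240)

theorem irr4 {a b c d : ℕ} (h : ck4 a b c d = true) {G : Submodule KK LK} (h1 : ∀ v ∈ G, brK (er 121 + er 141) v ∈ G)
    (h2 : ∀ v ∈ G, brK (er 126 + er 135) v ∈ G) {v : LK} (hv : v ∈ G) (hs : v ∈ Sp (· ∈ [a, b, c, d])) (h0 : v ≠ 0) : er a ∈ G := by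
  simp only [ck4, Bool.and_eq_true] at h
  obtain ⟨⟨k0, ⟨⟨k1, k2⟩, k3⟩, k4⟩, ⟨⟨k5, k6⟩, k7⟩, k8⟩ := h
  have e := ex4 k0 hs
  generalize co a v = p, co b v = q, co c v = r, co d v = t at e
  subst e
  have e1 := h1 _ hv
  have e2 := h2 _ hv
  rw [br4, bd k1, bd k2, bd k3, bd k4] at e1
  rw [br4, bd k5, bd k6, bd k7, bd k8] at e2
  simp only [er240, add_zero, smul_zero, zero_add] at e1 e2
  by_cases ht : t = 0
  · rw [ht, zero_smul, add_zero] at e1 e2 hv h0
    by_cases hr' : r = 0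
    · rw [hr', zero_smul, add_zero] at hv h0
      by_cases hq : q = 0
      · rw [hq, zero_smul, add_zero] at hv h0
        exact mem_smul (fun e => h0 (by rw [e, zero_smul])) hv
      · exact mem_smul hq e2
    · exact mem_smul hr' e1
  · have e3 := h2 _ e1
    rw [br_add_r, br_smul_r, br_smul_r, bd k5, bd k6] at e3
    simp only [er240, add_zero, smul_zero, zero_add] at e3
    exact mem_smul ht e3

theorem isSq_aK {g : GK} {x y : LK} (h : IsSq x y) : IsSq (aK g x) (aK g y) := fun v => by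
  rw [← aK_inv g v, ← aK_brK, ← aK_brK, ← aK_brK, h]

section

variable {ζ : KK} {e : ℕ → GK} {s : GK} {F : LK →+ LK}

theorem v5_lt (i : Fin 2) {r : ℕ} (hr' : r < 240) : v5 i r < 5 := by
  have h : ∀ i, ((List.range 240).all fun r => decide (v5 i r < 5)) = true := by decide +kernel
  exact of_decide_eq_true (all_lt (h i) hr')

theorem B5.sp (h : B5 ζ e s F) {a b : ℕ} {l : List ℕ} (hl : (decide (0 < a ∧ a < 5 ∧ b < 5) &&
    (List.range 240).all fun r => decide (v5 0 r = a → v5 1 r = b → r ∈ l)) = true) {n : LK} (hn : Wt ζ e a b n) :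
    n ∈ Sp (· ∈ l) := by
  rw [Bool.and_eq_true, decide_eq_true_eq] at hl
  refine ⟨h.d1.eig_T0 h.prim hl.1.2.1 (by omega) hn.1, fun r hr' e1 => ?_⟩
  by_cases e2 : v5 0 r = a
  · exact h.d2.eig h.prim hl.1.2.2 hn.2 hr' (v5_lt 1 hr') fun e3 => e1 (of_decide_eq_true (all_lt hl.2 hr') e2 e3)
  · exact h.d1.eig h.prim hl.1.2.1 hn.1 hr' (v5_lt 0 hr') e2

theorem B5.pw5 (h : B5 ζ e s F) {a b : ℕ} (e1 : a % 5 = b % 5) : ζ ^ a = ζ ^ b := by
  rw [← Nat.div_add_mod a 5, ← Nat.div_add_mod b 5, pow_add, pow_add, pow_mul, pow_mul, h.prim.pow_eq_one, one_pow, one_pow, e1]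

theorem B5.wtF (h : B5 ζ e s F) {a b a' b' : ℕ} (h1 : a * 2 % 5 = a' % 5) (h2 : b * 2 % 5 = b' % 5) {n : LK} (hn : Wt ζ e a b n) :
    Wt ζ e a' b' (F n) :=
  ⟨by rw [← h.Fe, hn.1, h.Fs, ← pow_mul, h.pw5 h1], by rw [← h.Fe, hn.2, h.Fs, ← pow_mul, h.pw5 h2]⟩

theorem B5.d1F (h : B5 ζ e s F) {g : GK} (hg : ∀ v, F (aK g v) = aK g (F v)) {a b : KK} {n : LK} (hn : n ∈ D1 g (e 2) a b) :
    F n ∈ D1 g (e 2) (a ^ 2) (b ^ 2) := by
  show aK g (F n) = a ^ 2 • F n + b ^ 2 • aK (e 2) (F n)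
  rw [← hg, show aK g n = _ from hn, map_add, h.Fs, h.Fs, h.Fe]

theorem B5.dblF (h : B5 ζ e s F) {a b c d : KK} {n : LK} (hn : n ∈ Dbl e a b c d) : F n ∈ Dbl e (a ^ 2) (b ^ 2) (c ^ 2) (d ^ 2) :=
  ⟨h.d1F (h.Fe 3) hn.1, h.d1F (fun v => by rw [aK_mul, aK_mul, h.Fe, h.Fe]) hn.2⟩

theorem Dbl.ad {a b c d : KK} {δ n : LK} (h1 : aK (e 3) δ = δ) (h2 : aK (e 2) δ = δ) (hn : n ∈ Dbl e a b c d) :
    brK δ n ∈ Dbl e a b c d := ⟨D1.ad h1 h2 hn.1, D1.ad (by rw [aK_mul, h2, h1]) h2 hn.2⟩

/-- the four nilpotent elements are fixed -/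
theorem B5.del (h : B5 ζ e s F) {p q : ℕ} (hp : (p, q) ∈ [(121, 141), (118, 98), (126, 135), (113, 104)]) :
    aK (e 0) (er p + er q) = er p + er q ∧ aK (e 1) (er p + er q) = er p + er q ∧ aK (e 2) (er p + er q) = er p + er q := by
  have k : ∀ x ∈ [(121, 141), (118, 98), (126, 135), (113, 104)], x.1 < 240 ∧ x.2 < 240 ∧ v5 0 x.1 = 0 ∧ v5 0 x.2 = 0 ∧
      v5 1 x.1 = 0 ∧ v5 1 x.2 = 0 ∧ pw l3 x.1 = x.2 ∧ pw l3 x.2 = x.1 ∧ (∃ k, x.1 = ipj k ∨ x.1 = 239 - ipj k) ∧
      ∃ k, x.2 = ipj k ∨ x.2 = 239 - ipj k := by decide +kernel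
  obtain ⟨k1, k2, k3, k4, k5, k6, k7, k8, ⟨i, k9⟩, j, k10⟩ := k _ hp
  dsimp only at k1 k2 k3 k4 k5 k6 k7 k8 k9 k10
  refine ⟨?_, ?_, ?_⟩
  · rw [aK_add, h.d1.er k1, h.d1.er k2, k3, k4, pow_zero, one_smul, one_smul]
  · rw [aK_add, h.d2.er k1, h.d2.er k2, k5, k6, pow_zero, one_smul, one_smul]
  · rw [aK_add, h.mW.b i k9, h.mW.b j k10, k7, k8, add_comm]

theorem B5.delY (h : B5 ζ e s F) {p q : ℕ} (hp : (p, q) ∈ [(121, 141), (118, 98), (126, 135), (113, 104)]) :
    aK (e 3) (er p + er q) = er p + er q := h.fixY _ (h.del hp).1 (h.del hp).2.1 (h.del hp).2.2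

/-- **the bracket of two natural modules** -/
theorem B5.db (h : B5 ζ e s F) {a b c d a' b' c' d' : KK} {n n' : LK} (hn : n ∈ Dbl e a b c d) (hn' : n' ∈ Dbl e a' b' c' d')
    (h1 : aK (e 0) (brK n n') = brK n n') (h2 : aK (e 1) (brK n n') = brK n n') (h3 : brK n (aK (e 2) n') = 0) :
    aK (e 2) (brK n n') = brK n n' := by
  have h4 : brK (aK (e 2) n) n' = 0 := by rw [← h.ww n', ← aK_brK, h3, aK_zero]
  have k1 : brK n n' ∈ Submodule.span KK {brK n n', aK (e 2) (brK n n')} := Submodule.subset_span (Or.inl rfl)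
  have k2 : aK (e 2) (brK n n') ∈ Submodule.span KK {brK n n', aK (e 2) (brK n n')} := Submodule.subset_span (Or.inr rfl)
  have key : ∀ a b a' b' : KK, brK (a • n + b • aK (e 2) n) (a' • n' + b' • aK (e 2) n') ∈
      Submodule.span KK {brK n n', aK (e 2) (brK n n')} := fun a b a' b' => by
    rw [br_add_l, br_add_r, br_add_r, br_smul_l, br_smul_l, br_smul_l, br_smul_l, br_smul_r, br_smul_r, br_smul_r, br_smul_r, h3, h4,
      ← aK_brK, smul_zero, smul_zero, smul_zero, smul_zero, add_zero, zero_add]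
    exact add_mem (Submodule.smul_mem _ _ (Submodule.smul_mem _ _ k1)) (Submodule.smul_mem _ _ (Submodule.smul_mem _ _ k2))
  refine h.triv _ (fun v hv => ?_) (fun v hv => span_ind ?_ hv) _ k1
  · obtain ⟨x, y, rfl⟩ := Submodule.mem_span_pair.1 hv
    have e1 : aK (e 0) (aK (e 2) (brK n n')) = aK (e 2) (brK n n') := by
      conv_lhs => rw [← h2, ← aK_mul, ← aK_mul, h.r1]
    have e2 : aK (e 1) (aK (e 2) (brK n n')) = aK (e 2) (brK n n') := by
      conv_lhs => rw [← h1, ← aK_mul, ← aK_mul, h.r2]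
    rw [aK_add, aK_add, aK_smul, aK_smul, aK_smul, aK_smul, h1, h2, e1, e2]
    exact ⟨rfl, rfl⟩
  · rintro _ (rfl | rfl)
    · rw [aK_brK (e 3), show aK (e 3) n = _ from hn.1, show aK (e 3) n' = _ from hn'.1]
      exact key a b a' b'
    · rw [← aK_mul, aK_brK (e 3 * e 2), show aK (e 3 * e 2) n = _ from hn.2, show aK (e 3 * e 2) n' = _ from hn'.2]
      exact key c d c' d'

theorem B5.wt_br (h : B5 ζ e s F) {n n' : LK} (hn : Wt ζ e 1 0 n) (hn' : Wt ζ e 4 0 n') :
    aK (e 0) (brK n n') = brK n n' ∧ aK (e 1) (brK n n') = brK n n' := by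
  constructor
  · rw [aK_brK, hn.1, hn'.1, br_smul_l, br_smul_r, smul_smul, ← pow_add, h.prim.pow_eq_one, one_smul]
  · rw [aK_brK, hn.2, hn'.2, pow_zero, one_smul, one_smul]

theorem B5.wt_of (h : B5 ζ e s F) {a b : ℕ} {l : List ℕ} (hl : ∀ r ∈ l, v5 0 r = a ∧ v5 1 r = b) {n : LK} (hn : n ∈ Sp (· ∈ l)) :
    Wt ζ e a b n := ⟨h.d1.of_Sp (Sp_mono (fun r _ k => (hl r k).1) hn), h.d2.of_Sp (Sp_mono (fun r _ k => (hl r k).2) hn)⟩

/-- the check that brackets vanish -/
def ck0 (l l' : List ℕ) : Bool := l.all fun a => l'.all fun b => decide (b ≠ 239 - a ∧ tf a b = 240)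

theorem br_zero_of {l l' : List ℕ} (h : ck0 l l' = true) {x y : LK} (hx : x ∈ Sp (· ∈ l)) (hy : y ∈ Sp (· ∈ l')) : brK x y = 0 := by
  let A : LK → Submodule KK LK := fun u => LinearMap.ker (⟨⟨brK u, br_add_r u⟩, fun c v => br_smul_r c u v⟩ : LK →ₗ[KK] LK)
  have k : ∀ b < 240, b ∈ l' → er b ∈ A x := fun b hb hb' => by
    show brK x (er b) = 0
    rw [br_comm]
    refine Sp_le (W := A (er b)) (fun a ha ha' => ?_) hx
    show brK (er b) (er a) = 0
    have h1 := of_decide_eq_true (List.all_eq_true.1 (List.all_eq_true.1 h a ha') b hb')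
    rw [br_comm, br_tf0 ha hb h1.1 h1.2]
  exact Sp_le (W := A x) k hy

theorem B5.FF (h : B5 ζ e s F) {v : LK} (h0 : F (F v) = 0) : v = 0 := h.Fi (h.Fi (by rw [h0, map_zero, map_zero]))

/-- **weight `(1, 0)`** -/
theorem B5.loc10 (h : B5 ζ e s F) {a b c d : KK} {n : LK} (hw : Wt ζ e 1 0 n) (hn : n ∈ Dbl e a b c d) : n ∈ Eg zz 1 := by
  have s1 := h.sp (l := [128, 124, 127, 123, 80, 148, 143, 137, 131, 147, 142, 136, 130]) (by decide +kernel) hw
  have s2 := h.sp (l := [109, 103, 97, 92, 108, 102, 96, 91, 159, 116, 112, 115, 111]) (by decide +kernel)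
    (h.wtF (a' := 4) (b' := 0) rfl rfl (h.wtF (a' := 2) (b' := 0) rfl rfl hw))
  have a1 : ∀ {a b c d : KK} {v}, v ∈ Dbl e a b c d → brK z13 v ∈ Dbl e a b c d := Dbl.ad (h.fz 3 (by norm_num)).1 (h.fz 2 (by norm_num)).1
  have a2 : ∀ {a b c d : KK} {v}, v ∈ Dbl e a b c d → brK z24 v ∈ Dbl e a b c d := Dbl.ad (h.fz 3 (by norm_num)).2 (h.fz 2 (by norm_num)).2
  have f1 : ∀ v, F (F (brK z13 v)) = brK z13 (F (F v)) := fun v => by rw [h.Fb, h.Fb, h.F1, h.F2]
  have f2 : ∀ v, F (F (brK z24 v)) = brK z24 (F (F v)) := fun v => by rw [h.Fb, h.Fb, h.F2, h.F1]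
  have c1 := fun r h1 v => co_z13 (r := r) h1 v
  have c2 := fun r h1 v => co_z24 (r := r) h1 v
  have k1 : n + brK z24 n + brK z13 (n + brK z24 n) = 0 := by
    have u1 : n + brK z24 n + brK z13 (n + brK z24 n) ∈ Sp (· ∈ [80]) :=
      Sp_mono (by decide +kernel) (Sp_zero (T0_h2 _ _) c1 (Sp_zero (T0_h2 _ _) c2 s1))
    have u2 : F (F (n + brK z24 n + brK z13 (n + brK z24 n))) ∈ Sp (· ∈ [159]) := by
      rw [map_add, map_add, f1, map_add, map_add, f2]
      exact Sp_mono (by decide +kernel) (Sp_zero (T0_h2 _ _) c1 (Sp_zero (T0_h2 _ _) c2 s2))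
    have u3 : n + brK z24 n + brK z13 (n + brK z24 n) ∈ Dbl e a b c d := add_mem (add_mem hn (a2 hn)) (a1 (add_mem hn (a2 hn)))
    generalize n + brK z24 n + brK z13 (n + brK z24 n) = u at u1 u2 u3
    have u4 := h.wt_br (h.wt_of (by decide +kernel) u1) (h.wt_of (by decide +kernel) u2)
    have u5 : aK (e 2) u ∈ Sp (· ∈ [239]) := h.mW.sp (by decide +kernel) u1
    have u6 : aK (e 2) (F (F u)) ∈ Sp (· ∈ [0]) := h.mW.sp (by decide +kernel) u2
    have u7 := h.db u3 (h.dblF (h.dblF u3)) u4.1 u4.2 (br_zero_of (by decide +kernel) u1 u6)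
    have u8 := bf_hr_br (a := 20) (ps := [80]) (by decide +kernel) u1 u2.2
    rw [← u7, aK_brK, bf_hr_br (a := 20) (ps := []) (by decide +kernel) u5 u6.2] at u8
    simp only [List.map_cons, List.map_nil, List.sum_cons, List.sum_nil, add_zero] at u8
    rcases mul_eq_zero.1 u8.symm with e1 | e1
    · exact zero_of_Sp u1 fun r _ e2 => by rw [List.mem_singleton.1 e2, e1]
    · exact h.FF (zero_of_Sp u2 fun r _ e2 => by rw [List.mem_singleton.1 e2]; exact e1)
  have k2 : brK z13 (brK z24 n) = 0 := by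
    have u1 : brK z13 (brK z24 n) ∈ Sp (· ∈ [128, 124, 127, 123]) :=
      Sp_mono (by decide +kernel) (Sp_one (T0_h2 _ _) c1 (Sp_one (T0_h2 _ _) c2 s1.2).2)
    have u2 : F (F (brK z13 (brK z24 n))) ∈ Sp (· ∈ [116, 112, 115, 111]) := by
      rw [f1, f2]
      exact Sp_mono (by decide +kernel) (Sp_one (T0_h2 _ _) c1 (Sp_one (T0_h2 _ _) c2 s2.2).2)
    have u3 := a1 (a2 hn)
    generalize brK z13 (brK z24 n) = u at u1 u2 u3
    by_contra u0
    have b1 : ∀ {a b c d : KK} {p q : ℕ}, (p, q) ∈ [(121, 141), (118, 98), (126, 135), (113, 104)] → ∀ v ∈ Dbl e a b c d,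
        brK (er p + er q) v ∈ Dbl e a b c d := fun hp _ => Dbl.ad (h.delY hp) (h.del hp).2.2
    have u4 := irr4 (by decide +kernel) (b1 (by decide)) (b1 (by decide)) u3 u1 u0
    have u5 := b1 (p := 113) (q := 104) (by decide) _
      (irr4 (by decide +kernel) (b1 (by decide)) (b1 (by decide)) (h.dblF (h.dblF u3)) u2 fun e1 => u0 (h.FF e1))
    rw [bd (t := 112) (u := 240) (by decide +kernel), er240, add_zero] at u5
    have m1 : er 128 ∈ Sp (· ∈ [128]) := er_mem_Sp fun _ => List.mem_singleton_self _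
    have m2 : er 112 ∈ Sp (· ∈ [112]) := er_mem_Sp fun _ => List.mem_singleton_self _
    have u6 := h.wt_br (h.wt_of (by decide +kernel) m1) (h.wt_of (by decide +kernel) m2)
    have u7 := h.db u4 u5 u6.1 u6.2 (br_zero_of (l' := [146]) (by decide +kernel) m1 (h.mW.sp (by decide +kernel) m2))
    rw [br_tf (by norm_num) (by norm_num) (by norm_num), show tf 128 112 = 121 by decide +kernel, h.mW.b 0 (a := 121) (Or.inl rfl),
      show pw l3 121 = 141 by decide +kernel] at u7
    have u8 := congrArg (co 121) u7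
    rw [co_er_self (by norm_num), co_er_ne (by norm_num)] at u8
    exact zero_ne_one u8
  refine L1_of ⟨s1.1, fun r h1 h2 => ?_⟩
  by_cases h3 : r ∈ [128, 124, 127, 123, 80, 148, 143, 137, 131, 147, 142, 136, 130]
  · have h4 : ∀ r ∈ [128, 124, 127, 123, 80, 148, 143, 137, 131, 147, 142, 136, 130], od r = true ∨ g13 r = true ∧ g24 r = true ∨
        ¬ g13 r = true ∧ ¬ g24 r = true := by decide +kernel
    rcases h4 r h3 with e1 | e1 | e1
    · exact absurd e1 h2
    · have e2 := congrArg (co r) k2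
      rwa [c1 r h1, c2 r h1, if_pos e1.1, if_pos e1.2, co_zero] at e2
    · have e2 := congrArg (co r) k1
      rwa [co_add, co_add, c1 r h1, c2 r h1, if_neg e1.1, if_neg e1.2, co_zero, add_zero, add_zero] at e2
  · exact s1.2 r h1 h3

/-- **weight `(1, 1)`** -/
theorem B5.loc11 (h : B5 ζ e s F) {a b : KK} (ha : a ≠ 0) (hb : b ≠ 0) {n : LK} (hw : Wt ζ e 1 1 n) (hn : n ∈ D1 (e 3) (e 2) a b) :
    n ∈ Eg zz 1 := by
  have s1 := h.sp (l := [191, 181, 158, 155, 205, 195, 204, 194]) (by decide +kernel) hw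
  have c2 := fun r h1 v => co_z24 (r := r) h1 v
  have k1 : n + brK z24 n = 0 := by
    have u1 : n + brK z24 n ∈ Sp (· ∈ [205, 195, 204, 194]) := Sp_mono (by decide +kernel) (Sp_zero (T0_h2 _ _) c2 s1)
    have u3 : n + brK z24 n ∈ D1 (e 3) (e 2) a b := add_mem hn (D1.ad (h.fz 3 (by norm_num)).2 (h.fz 2 (by norm_num)).2 hn)
    have e0 := ex4 (by decide +kernel) u1
    generalize n + brK z24 n = u at u3 e0
    generalize co 205 u = p, co 195 u = q, co 204 u = r, co 194 u = t at e0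
    subst e0
    by_contra u0
    have b1 : ∀ {p q : ℕ}, (p, q) ∈ [(121, 141), (118, 98), (126, 135), (113, 104)] → ∀ v ∈ D1 (e 3) (e 2) a b,
        brK (er p + er q) v ∈ D1 (e 3) (e 2) a b := fun hp _ => D1.ad (h.delY hp) (h.del hp).2.2
    have m1 : brK (er 118 + er 98) (er 205) = er 204 + er 195 := bd (by decide +kernel)
    have m2 : brK (er 118 + er 98) (er 195) = er 194 + er 240 := bd (by decide +kernel)
    have m3 : brK (er 118 + er 98) (er 204) = er 240 + er 194 := bd (by decide +kernel)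
    have e1 := b1 (p := 121) (q := 141) (by decide) _ u3
    have e2 := b1 (p := 118) (q := 98) (by decide) _ u3
    rw [br4, bd (t := 240) (u := 240) (by decide +kernel), bd (r := 195) (t := 240) (u := 205) (by decide +kernel),
      bd (r := 204) (t := 205) (u := 240) (by decide +kernel), bd (r := 194) (t := 195) (u := 204) (by decide +kernel)] at e1
    rw [br4, m1, m2, m3, bd (r := 194) (t := 240) (u := 240) (by decide +kernel)] at e2
    simp only [er240, add_zero, smul_zero, zero_add] at e1 e2 m2 m3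
    have hE : er 195 + er 204 ∈ D1 (e 3) (e 2) a b := by
      by_cases hq : q = r
      · rw [hq, add_self', zero_add] at e1
        rw [hq, add_assoc, add_self', add_zero, add_comm] at e2
        by_cases ht : t = 0
        · by_cases hp : p = 0
          · rw [ht, hp, hq, zero_smul, zero_smul, zero_add, add_zero, ← smul_add] at u3 u0
            exact mem_smul (fun e => u0 (by rw [e, zero_smul])) u3
          · exact mem_smul hp e2
        · exact mem_smul ht e1
      · have e3 := b1 (p := 118) (q := 98) (by decide) _ e1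
        rw [br_add_r, br_add_r, br_smul_r, br_smul_r, br_smul_r, br_add_r, m1, m2, m3, add_self', smul_zero, add_zero, ← add_smul,
          add_comm (er 204)] at e3
        exact mem_smul (fun e => hq (by linear_combination e - r * two_zero)) e3
    have e4 : aK (e 3) (er 195 + er 204) = a • (er 195 + er 204) + (b * chi s 195) • (er 44 + er 35) := by
      rw [show aK (e 3) (er 195 + er 204) = _ from hE, aK_add, h.mW.er (by norm_num), h.mW.er (by norm_num),
        chi_ky h.mW.2.1 (a := 204) (b := 195) (by unfold ky; decide +kernel), show pw l3 195 = 44 by decide +kernel,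
        show pw l3 204 = 35 by decide +kernel, ← smul_add, smul_smul]
    have q1 : IsSq (er 195 + er 204) 0 := by
      have := (isSq_er 195).add (isSq_er 204)
      rwa [br_tf0 (by norm_num) (by norm_num) (by norm_num) (by decide +kernel), add_zero, add_zero] at this
    have q2 : IsSq (er 44 + er 35) 0 := by
      have := (isSq_er 44).add (isSq_er 35)
      rwa [br_tf0 (by norm_num) (by norm_num) (by norm_num) (by decide +kernel), add_zero, add_zero] at this
    have q3 := isSq_aK (g := e 3) q1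
    rw [e4, aK_zero] at q3
    have q4 := q3.unique ((q1.smul a).add (q2.smul (b * chi s 195)))
    have q5 : brK (er 195 + er 204) (er 44 + er 35) = hr 195 + hr 204 := by
      rw [br_add_l, br_add_r, br_add_r, br_tf0 (r := 195) (s := 35) (by norm_num) (by norm_num) (by norm_num) (by decide +kernel),
        br_tf0 (r := 204) (s := 44) (by norm_num) (by norm_num) (by norm_num) (by decide +kernel), add_zero, zero_add,
        ← br_neg (r := 195) (by norm_num), ← br_neg (r := 204) (by norm_num)]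
    rw [smul_zero, smul_zero, add_zero, zero_add, br_smul_l, br_smul_r, q5, smul_smul] at q4
    have q6 := congrArg (fun v => co 1 (brK v (er 1))) q4
    simp only [br_zero_l, co_zero, br_smul_l, co_smul, br_add_l, co_add, co_br_hr, co_er_self (show 1 < 240 by norm_num), mul_one] at q6
    rw [← Int.cast_add, cast_odd (by decide +kernel), mul_one] at q6
    exact mul_ne_zero ha (mul_ne_zero hb (chi_ne h.mW.2.1 195)) q6.symm
  refine L1_of ⟨s1.1, fun r h1 h2 => ?_⟩
  by_cases h3 : r ∈ [191, 181, 158, 155, 205, 195, 204, 194]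
  · have h4 : ∀ r ∈ [191, 181, 158, 155, 205, 195, 204, 194], od r = true ∨ ¬ g24 r = true := by decide +kernel
    have e2 := congrArg (co r) k1
    rwa [co_add, c2 r h1, if_neg ((h4 r h3).resolve_left h2), co_zero, add_zero] at e2
  · exact s1.2 r h1 h3

end

end Cfsg.Agent.E82.Soc
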